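import Mathlib
import Cfsg.Prelude.Def_Blocks

set_option autoImplicit false
open Cfsg

/-!
# Brauer's `n`-theorem for `n < (p + 3) / 2` (S0996): the data (helper17)

`G` perfect, `P` a Sylow `p`-subgroup of order `p` with `C_G(P) = P`, `|N_G(P)| = p q`,
`p = q t + 1`, `1 + n p` Sylow `p`-subgroups, `2 n < p + 3`.  `NTSetup` is the group-theoretic
part, `NTData` (for `t ≥ 2`) adds the description of the principal block `X ⊔ Y` with the degrees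
that the arithmetic of `2 n < p + 3` forces: `1 + n p` (sign `+`), `p - 1` (sign `-`) on `X`, and
`q` (`ε = 1`) or `(1 + n p) / t` (`ε = -1`) on `Y`.
-/

namespace Cfsg.Agent.Lib.Helper17.BrauerNT

/-- The group-theoretic setup. -/
structure NTSetup {G : Type*} [Group G] [Finite G] (p : ℕ) (P : Sylow p G) (q t n : ℕ) : Prop where
  hp5 : 5 ≤ p
  hpqt : p = q * t + 1
  hq : 2 ≤ q
  hn : 1 ≤ n
  hn2 : 2 * n < p + 3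
  hPcard : Nat.card (P : Subgroup G) = p
  hcent : ∀ x : G, x ∈ (P : Subgroup G) → x ≠ 1 →
    Subgroup.centralizer ({x} : Set G) = (P : Subgroup G)
  hNcard : Nat.card (Subgroup.normalizer ((P : Subgroup G) : Set G)) = p * q
  hSyl : Nat.card (Sylow p G) = 1 + n * p
  hGcard : Nat.card G = p * q * (1 + n * p)

/-- The principal block in the case `t ≥ 2`. -/
structure NTData {G : Type*} [Group G] [Finite G] (p : ℕ) (P : Sylow p G) (q t n : ℕ) (ε : ℤ)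
    (a : IrrCharacter G → ℤ) (X Y : Finset (IrrCharacter G)) : Prop where
  setup : NTSetup p P q t n
  ht : 2 ≤ t
  hε : ε = 1 ∨ ε = -1
  hdisj : Disjoint X Y
  hXcard : X.card = q
  hYcard : Y.card = t
  haX : ∀ χ ∈ X, a χ = 1 ∨ a χ = -1
  hXval : ∀ χ ∈ X, ∀ x : G, x ∈ (P : Subgroup G) → x ≠ 1 → (χ : G → ℂ) x = (a χ : ℂ)
  htriv : ∃ χ₁ ∈ X, (χ₁ : G → ℂ) = fun _ => 1
  hYsum : ∀ x : G, x ∈ (P : Subgroup G) → x ≠ 1 → ∑ θ ∈ Y, (θ : G → ℂ) x = -(ε : ℂ)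
  hYreg : ∀ g : G, ¬ p ∣ orderOf g → ∀ θ ∈ Y, ∀ θ' ∈ Y, (θ : G → ℂ) g = (θ' : G → ℂ) g
  hrel : ∀ g : G, ¬ p ∣ orderOf g → ∀ θ ∈ Y,
    (ε : ℂ) * (θ : G → ℂ) g = ∑ χ ∈ X, (a χ : ℂ) * (χ : G → ℂ) g
  hdegXp : ∀ χ ∈ X, a χ = 1 → (χ : G → ℂ) ≠ (fun _ => 1) →
    (χ : G → ℂ) 1 = ((1 + n * p : ℕ) : ℂ)
  hdegXm : ∀ χ ∈ X, a χ = -1 → (χ : G → ℂ) 1 = ((p - 1 : ℕ) : ℂ)
  hdegYp : ε = 1 → ∀ θ ∈ Y, (θ : G → ℂ) 1 = (q : ℂ)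
  hdegYm : ε = -1 → ∀ θ ∈ Y, (t : ℂ) * (θ : G → ℂ) 1 = ((1 + n * p : ℕ) : ℂ)

/-- The principal block in the case `t = 1` (`q = p - 1`): `p` characters, all constant `± 1` on
`P ∖ 1`. -/
structure NT1Data {G : Type*} [Group G] [Finite G] (p : ℕ) (P : Sylow p G) (q n : ℕ)
    (b : IrrCharacter G → ℤ) (B : Finset (IrrCharacter G)) : Prop where
  setup : NTSetup p P q 1 n
  hBcard : B.card = p
  hb : ∀ ζ ∈ B, b ζ = 1 ∨ b ζ = -1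
  hBval : ∀ ζ ∈ B, ∀ x : G, x ∈ (P : Subgroup G) → x ≠ 1 → (ζ : G → ℂ) x = (b ζ : ℂ)
  htriv : ∃ χ₁ ∈ B, (χ₁ : G → ℂ) = fun _ => 1
  hrel1 : ∑ ζ ∈ B, (b ζ : ℂ) * (ζ : G → ℂ) 1 = 0
  hdegp : ∀ ζ ∈ B, b ζ = 1 → (ζ : G → ℂ) ≠ (fun _ => 1) →
    (ζ : G → ℂ) 1 = ((1 + n * p : ℕ) : ℂ)
  hdegm : ∀ ζ ∈ B, b ζ = -1 → (ζ : G → ℂ) 1 = ((p - 1 : ℕ) : ℂ)

end Cfsg.Agent.Lib.Helper17.BrauerNT
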