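import Mathlib

set_option autoImplicit false

/-!
# Arithmetic for Brauer's `n`-theorem, `2 n < p + 3` (S0996, helper17)
-/

namespace Cfsg.Agent.Lib.Helper17.BrauerNT

/-- Core of the sign `-` cases: `j (k p - 1) = q (n + k)`, `p = q t + 1`, `t ≥ 2`, `2 n < p + 3`
force `k = 1`. -/
theorem nt_core_minus_int {p q t n j k : ℤ} (hpqt : p = q * t + 1) (hq : 1 ≤ q) (ht : 2 ≤ t)
    (hn2 : 2 * n < p + 3) (hj : 1 ≤ j) (hk : 1 ≤ k) (h : j * (k * p - 1) = q * (n + k)) :
    k = 1 := by
  by_contra hk1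
  have hk2 : 2 ≤ k := by omega
  -- `j (k - 1) = q s` with `s = n + k - j k t`
  set s : ℤ := n + k - j * k * t with hs
  have h1 : j * (k - 1) = q * s := by
    rw [hs]
    have : j * (k * p - 1) = j * k * q * t + j * (k - 1) := by rw [hpqt]; ring
    rw [this] at h
    linear_combination h
  have hs1 : 1 ≤ s := by
    by_contra hcon
    push Not at hcon
    have h2 : s ≤ 0 := by omega
    have h3 : 0 < j * (k - 1) := by
      have : 0 < k - 1 := by omega
      positivity
    have h4 : q * s ≤ 0 := by nlinarith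
    linarith
  -- `n ≥ k + 1`
  have hjk : k ≤ j * k := by nlinarith
  have hjkt : 2 * k ≤ j * k * t := by nlinarith
  have hnk : k + 1 ≤ n := by
    have : 1 ≤ n + k - j * k * t := hs1
    linarith
  -- `s (k p - 1) = (n + k)(k - 1)`
  have h5 : s * (k * p - 1) = (n + k) * (k - 1) := by
    have hq0 : q ≠ 0 := by omega
    have : q * (s * (k * p - 1)) = q * ((n + k) * (k - 1)) := by
      have e1 : q * (s * (k * p - 1)) = (q * s) * (k * p - 1) := by ring
      rw [e1, ← h1]
      have e2 : j * (k - 1) * (k * p - 1) = (j * (k * p - 1)) * (k - 1) := by ring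
      rw [e2, h]; ring
    exact mul_left_cancel₀ hq0 this
  have hp0 : 0 ≤ p := by nlinarith
  have hkp : 0 ≤ k * p - 1 := by nlinarith
  have h6 : k * p - 1 ≤ (n + k) * (k - 1) := by
    rw [← h5]; nlinarith
  -- `2 n ≤ p + 2`
  have h7 : 2 * (k * p - 1) ≤ (p + 2 + 2 * k) * (k - 1) := by
    have : 2 * n + 2 * k ≤ p + 2 + 2 * k := by linarith
    have hk10 : 0 ≤ k - 1 := by omega
    nlinarith
  -- `p (k + 1) ≤ 2 k²`, so `p < 2 k`
  have h8 : p * (k + 1) ≤ 2 * k * k := by nlinarith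
  have h9 : p < 2 * k := by
    by_contra hcon
    push Not at hcon
    nlinarith
  linarith

theorem nt_core_minus {p q t n j k : ℕ} (hpqt : p = q * t + 1) (hq : 1 ≤ q) (ht : 2 ≤ t)
    (hn2 : 2 * n < p + 3) (hj : 1 ≤ j) (hk : 1 ≤ k) (h : j * (k * p - 1) = q * (n + k)) :
    k = 1 := by
  have hp1 : 1 ≤ p := by rw [hpqt]; omega
  have hkp : 1 ≤ k * p := Nat.mul_pos hk hp1
  have hZ : (j : ℤ) * ((k : ℤ) * p - 1) = q * (n + k) := by
    have : ((k * p - 1 : ℕ) : ℤ) = (k : ℤ) * p - 1 := by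
      rw [Nat.cast_sub hkp]; push_cast; ring
    rw [← this]
    exact_mod_cast h
  have := nt_core_minus_int (p := (p : ℤ)) (q := q) (t := t) (n := n) (j := j) (k := k)
    (by exact_mod_cast hpqt) (by exact_mod_cast hq) (by exact_mod_cast ht)
    (by exact_mod_cast hn2) (by exact_mod_cast hj) (by exact_mod_cast hk) hZ
  exact_mod_cast this

/-- A degree `z ≡ -1 (mod p)` dividing `q (1 + n p)` is `p - 1` (`t ≥ 2`, `2 n < p + 3`). -/
theorem nt_deg_minus {p q t n z : ℕ} (hpqt : p = q * t + 1) (hq : 1 ≤ q) (ht : 2 ≤ t)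
    (hn2 : 2 * n < p + 3) (hz0 : 0 < z) (hcong : (p : ℤ) ∣ (z : ℤ) + 1)
    (hdvd : z ∣ q * (1 + n * p)) : z = p - 1 := by
  have hp3 : 3 ≤ p := by rw [hpqt]; nlinarith
  obtain ⟨k, hk⟩ := hcong
  have hk1 : 1 ≤ k := by
    by_contra hcon
    push Not at hcon
    have : (p : ℤ) * k ≤ 0 := by
      have hp0 : (0 : ℤ) ≤ p := by positivity
      nlinarith
    have hz : (0 : ℤ) < z := by exact_mod_cast hz0
    linarith
  obtain ⟨m, hm⟩ := hdvd
  have hm0 : 0 < m := by
    rcases Nat.eq_zero_or_pos m with h | h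
    · rw [h, mul_zero] at hm
      have : 0 < q * (1 + n * p) := by positivity
      omega
    · exact h
  have hmZ : (q : ℤ) * (1 + n * p) = z * m := by exact_mod_cast hm
  have hzk : (z : ℤ) = p * k - 1 := by linarith
  -- `m + q = j p`
  have h1 : (p : ℤ) ∣ (m : ℤ) + q := by
    refine ⟨k * m - q * n, ?_⟩
    rw [hzk] at hmZ
    linear_combination hmZ
  obtain ⟨j, hj⟩ := h1
  have hj1 : 1 ≤ j := by
    by_contra hcon
    push Not at hcon
    have : (p : ℤ) * j ≤ 0 := by
      have hp0 : (0 : ℤ) ≤ p := by positivity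
      nlinarith
    have hm' : (0 : ℤ) < m := by exact_mod_cast hm0
    have hq' : (0 : ℤ) < q := by exact_mod_cast hq
    linarith
  have hmj : (m : ℤ) = p * j - q := by linarith
  -- `j (k p - 1) = q (n + k)`
  have h2 : j * (k * (p : ℤ) - 1) = q * (n + k) := by
    have hp0 : (p : ℤ) ≠ 0 := by
      have : 0 < p := by omega
      exact_mod_cast this.ne'
    have : (p : ℤ) * (j * (k * (p : ℤ) - 1)) = p * (q * (n + k)) := by
      rw [hzk, hmj] at hmZ
      linear_combination -hmZ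
    exact mul_left_cancel₀ hp0 this
  have hk' := nt_core_minus_int (p := (p : ℤ)) (q := q) (t := t) (n := n) (j := j) (k := k)
    (by exact_mod_cast hpqt) (by exact_mod_cast hq) (by exact_mod_cast ht)
    (by exact_mod_cast hn2) hj1 hk1 h2
  rw [hk', mul_one] at hzk
  have : (z : ℤ) = ((p - 1 : ℕ) : ℤ) := by
    rw [Nat.cast_sub (by omega)]; simpa using hzk
  exact_mod_cast this

/-- `(n + 1) ∣ p (1 + n p)` and `n + 1 < p` prime give `(n + 1) ∣ p - 1`. -/
theorem nt_dvd_pred {p n : ℕ} (hp : p.Prime) (hp5 : 5 ≤ p) (hn2 : 2 * n < p + 3)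
    (h : (n + 1) ∣ p * (1 + n * p)) : (n + 1) ∣ p - 1 := by
  have hcop : Nat.Coprime (n + 1) p := by
    rw [Nat.coprime_comm]
    apply (Nat.Prime.coprime_iff_not_dvd hp).mpr
    intro hd
    have := Nat.le_of_dvd (by omega) hd
    omega
  have h1 : (n + 1) ∣ 1 + n * p := hcop.dvd_of_dvd_mul_left h
  have h2 : (n + 1) ∣ (n + 1) * p := Dvd.intro _ rfl
  have h3 : (n + 1) * p = (1 + n * p) + (p - 1) := by
    have : 1 ≤ p := by omega
    zify [this]
    ring
  rw [h3] at h2
  exact (Nat.dvd_add_right h1).mp h2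

theorem nt1_aux {p z W : ℕ} (hm : W = z) (hD : p < W) (hsq : z * z < p * W) : False := by
  subst hm
  have h1 : p * W < W * W := Nat.mul_lt_mul_of_pos_right hD (by omega)
  omega

set_option maxHeartbeats 1000000 in
/-- The case `t = 1` (`q = p - 1`): a degree `z ≡ -1 (mod p)` dividing `q (1 + n p)` with
`z² < p q (1 + n p)` is `p - 1`. -/
theorem nt1_deg_minus {p q n z : ℕ} (hpq : p = q + 1) (hq : 1 ≤ q) (hn1 : 1 ≤ n)
    (hn2 : 2 * n < p + 3) (hz0 : 0 < z) (hcong : (p : ℤ) ∣ (z : ℤ) + 1)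
    (hdvd : z ∣ q * (1 + n * p)) (hsq : z * z < p * q * (1 + n * p)) : z = p - 1 := by
  obtain ⟨k, hk⟩ := hcong
  have hpZ : (p : ℤ) = q + 1 := by exact_mod_cast hpq
  have hqZ : (1 : ℤ) ≤ q := by exact_mod_cast hq
  have hn1Z : (1 : ℤ) ≤ n := by exact_mod_cast hn1
  have hn2Z : 2 * (n : ℤ) < p + 3 := by exact_mod_cast hn2
  have hzZ : (0 : ℤ) < z := by exact_mod_cast hz0
  have hp0 : (0 : ℤ) < p := by linarith
  have hk1 : 1 ≤ k := by
    by_contra hcon
    push Not at hcon
    have : (p : ℤ) * k ≤ 0 := by nlinarith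
    linarith
  obtain ⟨m, hm⟩ := hdvd
  have hm0 : 0 < m := by
    rcases Nat.eq_zero_or_pos m with h | h
    · rw [h, mul_zero] at hm
      have : 0 < q * (1 + n * p) := by positivity
      omega
    · exact h
  have hmZ : (q : ℤ) * (1 + n * p) = z * m := by exact_mod_cast hm
  have hzk : (z : ℤ) = p * k - 1 := by linarith
  have h1 : (p : ℤ) ∣ (m : ℤ) + q := by
    refine ⟨k * m - q * n, ?_⟩
    rw [hzk] at hmZ
    linear_combination hmZ
  obtain ⟨j, hj⟩ := h1
  have hm' : (0 : ℤ) < m := by exact_mod_cast hm0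
  have hj1 : 1 ≤ j := by
    by_contra hcon
    push Not at hcon
    have : (p : ℤ) * j ≤ 0 := by nlinarith
    linarith
  have hmj : (m : ℤ) = p * j - q := by linarith
  have h2 : j * (k * (p : ℤ) - 1) = q * (n + k) := by
    have : (p : ℤ) * (j * (k * (p : ℤ) - 1)) = p * (q * (n + k)) := by
      rw [hzk, hmj] at hmZ
      linear_combination -hmZ
    exact mul_left_cancel₀ hp0.ne' this
  by_cases hk1' : k = 1
  · rw [hk1', mul_one] at hzk
    have : (z : ℤ) = ((p - 1 : ℕ) : ℤ) := by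
      rw [Nat.cast_sub (by omega)]; simpa using hzk
    exact_mod_cast this
  exfalso
  have hk2 : 2 ≤ k := by omega
  -- `j (k - 1) = q s`, `s = n + k - j k`
  set s : ℤ := n + k - j * k with hs
  have h3 : j * (k - 1) = q * s := by
    rw [hs]
    have : j * (k * (p : ℤ) - 1) = j * k * q + j * (k - 1) := by rw [hpZ]; ring
    rw [this] at h2
    linear_combination h2
  have hs1 : 1 ≤ s := by
    by_contra hcon
    push Not at hcon
    have h4 : 0 < j * (k - 1) := by
      have : 0 < k - 1 := by omega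
      positivity
    have h5 : q * s ≤ 0 := by nlinarith
    linarith
  have h5 : s * (k * (p : ℤ) - 1) = (n + k) * (k - 1) := by
    have hq0 : (q : ℤ) ≠ 0 := by omega
    have : (q : ℤ) * (s * (k * p - 1)) = q * ((n + k) * (k - 1)) := by
      have e1 : (q : ℤ) * (s * (k * p - 1)) = (q * s) * (k * p - 1) := by ring
      rw [e1, ← h3]
      have e2 : j * (k - 1) * (k * (p : ℤ) - 1) = (j * (k * p - 1)) * (k - 1) := by ring
      rw [e2, h2]; ring
    exact mul_left_cancel₀ hq0 this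
  have hkp : 0 ≤ k * (p : ℤ) - 1 := by nlinarith
  have h6 : k * (p : ℤ) - 1 ≤ (n + k) * (k - 1) := by
    rw [← h5]; nlinarith
  have h7 : 2 * (k * (p : ℤ) - 1) ≤ (p + 2 + 2 * k) * (k - 1) := by
    have hk10 : 0 ≤ k - 1 := by omega
    have h71 : 2 * ((n : ℤ) + k) ≤ p + 2 + 2 * k := by linarith
    have h72 := mul_le_mul_of_nonneg_right h71 hk10
    linarith
  have h8 : (p : ℤ) * (k + 1) ≤ 2 * k * k := by
    have e : ((p : ℤ) + 2 + 2 * k) * (k - 1) = 2 * k * k + p * k - p - 2 := by ring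
    rw [e] at h7
    linarith
  have h9 : (p : ℤ) < 2 * k := by
    by_contra hcon
    push Not at hcon
    have h91 := mul_le_mul_of_nonneg_right hcon (by omega : (0 : ℤ) ≤ k + 1)
    have e : 2 * k * (k + 1) = 2 * k * k + 2 * k := by ring
    rw [e] at h91
    linarith
  -- `j = 1`
  have hj1' : j = 1 := by
    by_contra hcon
    have hj2 : 2 ≤ j := by omega
    have : 2 * k ≤ j * k := by nlinarith
    -- s = n + k - j k ≤ n - k, and 1 ≤ s
    have : 1 ≤ n + k - j * k := hs1
    linarith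
  rw [hj1', mul_one] at hmj
  have hm1 : (m : ℤ) = 1 := by rw [hmj, hpZ]; ring
  have hm1' : m = 1 := by exact_mod_cast hm1
  rw [hm1', mul_one] at hm
  have hD : p < q * (1 + n * p) := by
    have h1 : 1 * (1 + 1 * p) ≤ q * (1 + n * p) :=
      Nat.mul_le_mul hq (Nat.add_le_add_left (Nat.mul_le_mul_right p hn1) 1)
    omega
  exact nt1_aux hm hD (by rw [mul_assoc] at hsq; exact hsq)

end Cfsg.Agent.Lib.Helper17.BrauerNT
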