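import Mathlib
import Cfsg.Agent.Lib.Helper17.BrauerNT.Defs
import Cfsg.Agent.Lib.Helper17.BrauerNT.Arith
import Cfsg.Agent.Lib.Helper79.BrauerN.Defs
import Cfsg.Agent.Lib.Helper78.CharValues

set_option autoImplicit false
set_option maxHeartbeats 800000
open Cfsg

/-!
# S0996: the end of the case `ε = -1` (helper17)

`nt_minus_end`: in `NTData` with `ε = -1`, `(n + 1) ∣ p - 1` forces `n + 1 = t`.
`nt_rigid`: then (`t ≥ 3`) we are in helper79's rigid configuration.
-/

namespace Cfsg.Agent.Lib.Helper17.BrauerNT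

open Cfsg.Agent.Lib.Helper79.BrauerN

/-- pure arithmetic: `t (q - 1) = u (n + 1)`, `t ∣ n + 1`, `(n + 1) ∣ q t` give `n + 1 = t`. -/
theorem nt_minus_arith {q t n u : ℕ} (ht : 1 ≤ t) (hq : 2 ≤ q) (h1 : t * (q - 1) = u * (n + 1))
    (h2 : t ∣ n + 1) (h3 : (n + 1) ∣ q * t) : n + 1 = t := by
  obtain ⟨c, hc⟩ := h2
  have hc0 : 0 < c := by
    rcases Nat.eq_zero_or_pos c with h | h
    · rw [h, mul_zero] at hc; omega
    · exact h
  -- `c ∣ q`
  have hcq : c ∣ q := by
    rw [hc, mul_comm q t] at h3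
    exact (Nat.mul_dvd_mul_iff_left (by omega)).mp h3
  -- `c ∣ q - 1`
  have hcq1 : c ∣ q - 1 := by
    rw [hc] at h1
    have : t * (q - 1) = t * (u * c) := by rw [h1]; ring
    have h4 := Nat.eq_of_mul_eq_mul_left (by omega) this
    exact ⟨u, by rw [h4]; ring⟩
  have hc1 : c ∣ 1 := by
    have : c ∣ q - (q - 1) := Nat.dvd_sub hcq hcq1
    have e : q - (q - 1) = 1 := by omega
    rwa [e] at this
  have : c = 1 := Nat.dvd_one.mp hc1
  rw [hc, this, mul_one]

section

variable {G : Type*} [Group G] [Finite G] {p : ℕ} [Fact p.Prime] {P : Sylow p G} {q t n : ℕ}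
  {ε : ℤ} {a : IrrCharacter G → ℤ} {X Y : Finset (IrrCharacter G)}

theorem NTData.exists_triv (D : NTData p P q t n ε a X Y) :
    ∃ triv : IrrCharacter G, (triv : G → ℂ) = (fun _ => 1) ∧ triv ∈ X ∧ a triv = 1 := by
  obtain ⟨triv, hX, htriv⟩ := D.htriv
  refine ⟨triv, htriv, hX, ?_⟩
  have hp : p.Prime := Fact.out
  -- a nontrivial element of `P`
  obtain ⟨x₀, hx₀P, hx₀1⟩ : ∃ x₀ : G, x₀ ∈ (P : Subgroup G) ∧ x₀ ≠ 1 := by
    by_contra hcon
    push Not at hcon
    have : (P : Subgroup G) = ⊥ := by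
      rw [Subgroup.eq_bot_iff_forall]; exact hcon
    have h := D.setup.hPcard
    rw [this, Subgroup.card_bot] at h
    have := hp.one_lt
    omega
  have h1 := D.hXval triv hX x₀ hx₀P hx₀1
  rw [htriv] at h1
  have : ((a triv : ℤ) : ℂ) = ((1 : ℤ) : ℂ) := by rw [← h1]; simp
  exact_mod_cast this

theorem nt_minus_end (D : NTData p P q t n ε a X Y) (hε : ε = -1) (hdvd : (n + 1) ∣ p - 1) :
    n + 1 = t := by
  classical
  have hp : p.Prime := Fact.out
  have hpqt := D.setup.hpqt
  have hq := D.setup.hq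
  have ht := D.ht
  obtain ⟨triv, htriv, htrivX, hatriv⟩ := D.exists_triv
  have hchar1 : ∀ χ : IrrCharacter G, (χ : G → ℂ) 1 = (charDegree (χ : G → ℂ) : ℂ) := fun χ =>
    Cfsg.Agent.Lib.Helper78.IsCharacter.apply_one_eq_charDegree
      (Cfsg.Agent.Lib.Helper78.IsIrrCharacter.isCharacter χ.2)
  have hone : ¬ p ∣ orderOf (1 : G) := by
    rw [orderOf_one]
    exact hp.one_lt.ne' ∘ Nat.dvd_one.mp
  -- an element of `Y`
  obtain ⟨θ₀, hθ₀⟩ : Y.Nonempty := by
    rw [← Finset.card_pos, D.hYcard]; omega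
  set d := charDegree (θ₀ : G → ℂ) with hd
  have htd : t * d = 1 + n * p := by
    have h := D.hdegYm hε θ₀ hθ₀
    rw [hchar1] at h
    exact_mod_cast h
  -- the degree equation
  have hdegeq : -(d : ℤ) = ∑ χ ∈ X, a χ * (charDegree (χ : G → ℂ) : ℤ) := by
    have h1 := D.hrel 1 hone θ₀ hθ₀
    rw [hchar1, hε] at h1
    have h3 : ((-(d : ℤ) : ℤ) : ℂ) =
        ((∑ χ ∈ X, a χ * (charDegree (χ : G → ℂ) : ℤ) : ℤ) : ℂ) := by
      push_cast
      have : (-1 : ℂ) * (d : ℂ) = -(d : ℂ) := by ring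
      rw [← this]
      have h1' : ((-1 : ℤ) : ℂ) * (d : ℂ) = ∑ χ ∈ X, (a χ : ℂ) * (χ : G → ℂ) 1 := h1
      push_cast at h1'
      rw [h1']
      apply Finset.sum_congr rfl
      intro χ _
      rw [hchar1]
    exact_mod_cast h3
  have hdtriv : charDegree (triv : G → ℂ) = 1 := by
    have : ((charDegree (triv : G → ℂ) : ℕ) : ℂ) = 1 := by rw [← hchar1, htriv]
    exact_mod_cast this
  have hsplit : ∑ χ ∈ X, a χ * (charDegree (χ : G → ℂ) : ℤ) =
      1 + ∑ χ ∈ X.erase triv, a χ * (charDegree (χ : G → ℂ) : ℤ) := by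
    rw [← Finset.add_sum_erase X _ htrivX, hatriv, hdtriv]
    simp
  -- the two kinds of nontrivial characters of `X`
  set A := (X.erase triv).filter (fun χ => a χ = 1) with hA
  set Bm := (X.erase triv).filter (fun χ => ¬ a χ = 1) with hBm
  have hcardAB : A.card + Bm.card = q - 1 := by
    rw [hA, hBm, Finset.card_filter_add_card_filter_not, Finset.card_erase_of_mem htrivX,
      D.hXcard]
  have hsumA : ∑ χ ∈ A, a χ * (charDegree (χ : G → ℂ) : ℤ) = A.card * ((1 + n * p : ℕ) : ℤ) := by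
    rw [Finset.sum_congr rfl (g := fun _ => ((1 + n * p : ℕ) : ℤ)), Finset.sum_const,
      nsmul_eq_mul]
    intro χ hχ
    rw [hA, Finset.mem_filter, Finset.mem_erase] at hχ
    obtain ⟨⟨hne, hχX⟩, ha⟩ := hχ
    have h := D.hdegXp χ hχX ha (fun h => hne (Subtype.ext (h.trans htriv.symm)))
    rw [hchar1] at h
    have : charDegree (χ : G → ℂ) = 1 + n * p := by exact_mod_cast h
    rw [ha, this, one_mul]
  have hsumB : ∑ χ ∈ Bm, a χ * (charDegree (χ : G → ℂ) : ℤ) =
      -(Bm.card * ((p - 1 : ℕ) : ℤ)) := by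
    rw [Finset.sum_congr rfl (g := fun _ => -((p - 1 : ℕ) : ℤ)), Finset.sum_const,
      nsmul_eq_mul]
    · ring
    intro χ hχ
    rw [hBm, Finset.mem_filter, Finset.mem_erase] at hχ
    obtain ⟨⟨hne, hχX⟩, ha⟩ := hχ
    have ha' : a χ = -1 := (D.haX χ hχX).resolve_left ha
    have h := D.hdegXm χ hχX ha'
    rw [hchar1] at h
    have : charDegree (χ : G → ℂ) = p - 1 := by exact_mod_cast h
    rw [ha', this]; ring
  have hsum : ∑ χ ∈ X.erase triv, a χ * (charDegree (χ : G → ℂ) : ℤ) =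
      A.card * ((1 + n * p : ℕ) : ℤ) - Bm.card * ((p - 1 : ℕ) : ℤ) := by
    rw [← Finset.sum_filter_add_sum_filter_not (X.erase triv) (fun χ => a χ = 1), ← hA, ← hBm,
      hsumA, hsumB]
    ring
  rw [hsplit, hsum] at hdegeq
  -- arithmetic
  have hp1 : ((p - 1 : ℕ) : ℤ) = (q : ℤ) * t := by
    have : p - 1 = q * t := by omega
    rw [this]; push_cast; ring
  have hpZ : (p : ℤ) = q * t + 1 := by exact_mod_cast hpqt
  have htdZ : (t : ℤ) * d = 1 + n * p := by exact_mod_cast htd
  have hABZ : (A.card : ℤ) + Bm.card = q - 1 := by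
    have : ((A.card + Bm.card : ℕ) : ℤ) = ((q - 1 : ℕ) : ℤ) := by rw [hcardAB]
    rw [Nat.cast_sub (by omega)] at this
    push_cast at this
    exact this
  -- `t (q - 1) = (1 + t k₊) (n + 1)`
  have hkey : (t : ℤ) * (q - 1) = (1 + t * A.card) * (n + 1) := by
    have hp0 : (p : ℤ) ≠ 0 := by
      have := hp.pos
      exact_mod_cast this.ne'
    have hB : (Bm.card : ℤ) = q - 1 - A.card := by linarith
    rw [hp1, hB] at hdegeq
    push_cast at hdegeq
    -- multiply the degree equation by `t`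
    have h1 : -((t : ℤ) * d) = t * (1 + A.card * (1 + n * p) - (q - 1 - A.card) * (q * t)) := by
      linear_combination (t : ℤ) * hdegeq
    rw [htdZ] at h1
    have h2 : (p : ℤ) * ((t : ℤ) * (q - 1)) = p * ((1 + t * A.card) * (n + 1)) := by
      have e1 : (q : ℤ) * t = p - 1 := by linarith
      have h3 : -(1 + (n : ℤ) * p) =
          t * (1 + A.card * (1 + n * p)) - (t * (q - 1) - t * A.card) * (p - 1) := by
        rw [h1, ← e1]; ring
      have e2 : (t : ℤ) * q = p - 1 := by linarith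
      have h4 : (t : ℤ) * (q - 1) = p - 1 - t := by linarith
      rw [h4] at h3 ⊢
      linear_combination h3
    exact mul_left_cancel₀ hp0 h2
  have hkeyN : t * (q - 1) = (1 + t * A.card) * (n + 1) := by
    have : ((t * (q - 1) : ℕ) : ℤ) = (((1 + t * A.card) * (n + 1) : ℕ) : ℤ) := by
      rw [Nat.cast_mul, Nat.cast_sub (by omega)]
      push_cast
      exact hkey
    exact_mod_cast this
  -- `t ∣ n + 1`
  have htn : t ∣ n + 1 := by
    have h1 : (t : ℤ) ∣ (n : ℤ) + 1 := by
      refine ⟨d - n * q, ?_⟩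
      have : (t : ℤ) * (d - n * q) = t * d - n * (q * t) := by ring
      rw [this, htdZ, hpZ]; ring
    exact_mod_cast h1
  have h3 : (n + 1) ∣ q * t := by
    have : p - 1 = q * t := by omega
    rwa [this] at hdvd
  exact nt_minus_arith (by omega) hq hkeyN htn h3

/-- With `n + 1 = t ≥ 3` and `ε = -1` the data is rigid. -/
theorem nt_rigid (D : NTData p P q t n ε a X Y) (hε : ε = -1) (hnt : n + 1 = t) (ht3 : 3 ≤ t) :
    RigidData p P q t ε a X Y := by
  have hp : p.Prime := Fact.out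
  have hpqt := D.setup.hpqt
  have hn' : n = t - 1 := by omega
  have hne1 : ε ≠ 1 := by rw [hε]; norm_num
  refine
    { hpqt := hpqt
      hq := D.setup.hq
      ht := ht3
      hPcard := D.setup.hPcard
      hcent := D.setup.hcent
      hNcard := D.setup.hNcard
      hGcard := by rw [D.setup.hGcard, hn']
      hε := D.hε
      hdisj := D.hdisj
      hXcard := D.hXcard
      hYcard := D.hYcard
      haX := D.haX
      hXval := D.hXval
      htriv := D.htriv
      hYsum := D.hYsum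
      hYreg := D.hYreg
      hrel := D.hrel
      hdegXp := ?_
      hdegXm := D.hdegXm
      hdegY := ?_ }
  · intro χ hχ ha hne
    rw [D.hdegXp χ hχ ha hne, hn']
  · intro θ hθ
    rw [if_neg hne1]
    have h := D.hdegYm hε θ hθ
    have ht0 : (t : ℂ) ≠ 0 := by
      have : t ≠ 0 := by omega
      exact_mod_cast this
    -- `t (p - q) = 1 + (t - 1) p`
    have h2 : ((1 + n * p : ℕ) : ℂ) = (t : ℂ) * ((p - q : ℕ) : ℂ) := by
      have hqp : q ≤ p := by nlinarith
      have : 1 + n * p = t * (p - q) := by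
        rw [hn']
        obtain ⟨t', rfl⟩ : ∃ t', t = t' + 1 := ⟨t - 1, by omega⟩
        have e : t' + 1 - 1 = t' := by omega
        rw [e]
        zify [hqp]
        rw [hpqt]
        push_cast
        ring
      rw [this]; push_cast; ring
    rw [h2] at h
    exact mul_left_cancel₀ ht0 h

end

end Cfsg.Agent.Lib.Helper17.BrauerNT
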